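import Cfsg.Agent.Leech.Basic
import Cfsg.Agent.Steiner.Transport

/-!
# Lattices in frame coordinates

An abstract version of the lattice of frame coordinates: its binary code has the parameters of the
length 24 code, hence the lattice is the image of the standard one under a signed relabelling.
-/

set_option autoImplicit false
set_option linter.unusedSectionVars false

open Finset Cfsg
open CfsgLib

namespace Cfsg.Agent.LeechChar

variable {ι : Type*} [Fintype ι] [DecidableEq ι]

/-- The properties of the lattice of coordinates with respect to a frame. -/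
structure Framed (Λ : AddSubgroup (ι → ℤ)) : Prop where
  len : Fintype.card ι = 24
  par : ∀ v ∈ Λ, ∀ i j, (2 : ℤ) ∣ v i - v j
  four : ∀ z : ι → ℤ, (2 : ℤ) ∣ ∑ i, z i → (fun i => 4 * z i) ∈ Λ
  sixteen : ∀ v ∈ Λ, (16 : ℤ) ∣ sqNorm v
  low : ∀ v ∈ Λ, v ≠ 0 → 32 ≤ sqNorm v
  count : {v : ι → ℤ | v ∈ Λ ∧ sqNorm v = 32}.ncard = 196560

lemma sqNorm_mul (k : ℤ) (w : ι → ℤ) : sqNorm (fun i => k * w i) = k ^ 2 * sqNorm w := by
  simp only [sqNorm, Finset.mul_sum, mul_pow]

lemma zmod_two_eq (a : ZMod 2) : a = 0 ∨ a = 1 := by revert a; decide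

lemma cast_eq_one_iff (a : ℤ) : (a : ZMod 2) = 1 ↔ a % 2 = 1 := by
  rw [← Int.cast_one, ZMod.intCast_eq_intCast_iff']; omega

lemma cast_eq_zero_iff (a : ℤ) : (a : ZMod 2) = 0 ↔ a % 2 = 0 := by
  rw [← Int.cast_zero, ZMod.intCast_eq_intCast_iff']; omega

lemma sq_sub_dvd (a : ℤ) : (4 : ℤ) ∣ a ^ 2 - a % 2 := by
  rcases Int.even_or_odd' a with ⟨k, rfl | rfl⟩
  · exact ⟨k ^ 2, by rw [show 2 * k % 2 = 0 by omega]; ring⟩
  · exact ⟨k ^ 2 + k, by rw [show (2 * k + 1) % 2 = 1 by omega]; ring⟩

namespace Framed

variable {Λ : AddSubgroup (ι → ℤ)} (h : Framed Λ)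
include h

lemma eight_dvd_dot {v w : ι → ℤ} (hv : v ∈ Λ) (hw : w ∈ Λ) : (8 : ℤ) ∣ dotInt v w := by
  have e : sqNorm (v + w) = sqNorm v + 2 * dotInt v w + sqNorm w := by
    simp only [sqNorm, dotInt, Finset.mul_sum, ← Finset.sum_add_distrib, Pi.add_apply]
    exact Finset.sum_congr rfl fun i _ => by ring
  have := h.sixteen _ hv
  have := h.sixteen _ hw
  have := h.sixteen _ (Λ.add_mem hv hw)
  omega

/-- The binary code of the even vectors. -/
def code (_h : Framed Λ) : Submodule (ZMod 2) (ι → ZMod 2) where
  carrier := {c | ∃ w : ι → ℤ, (fun i => 2 * w i) ∈ Λ ∧ (fun i => (w i : ZMod 2)) = c}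
  zero_mem' := ⟨0, by convert! Λ.zero_mem using 1, funext fun i => by simp⟩
  add_mem' := by
    rintro a b ⟨v, hv, rfl⟩ ⟨w, hw, rfl⟩
    refine ⟨v + w, ?_, funext fun i => by simp⟩
    convert! Λ.add_mem hv hw using 1
    funext i
    simp [mul_add]
  smul_mem' := by
    rintro r a ⟨w, hw, rfl⟩
    rcases zmod_two_eq r with rfl | rfl
    · exact ⟨0, by convert! Λ.zero_mem using 1, funext fun i => by simp⟩
    · exact ⟨w, hw, by simp⟩

lemma mem_code {c : ι → ZMod 2} :
    c ∈ h.code ↔ ∃ w : ι → ℤ, (fun i => 2 * w i) ∈ Λ ∧ (fun i => (w i : ZMod 2)) = c := Iff.rfl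

lemma wgt_eq_sum (w : ι → ℤ) :
    ((Steiner.wgt (fun i => (w i : ZMod 2)) : ℕ) : ℤ) = ∑ i, w i % 2 := by
  rw [Steiner.wgt, support₂, Finset.card_filter, Nat.cast_sum]
  refine Finset.sum_congr rfl fun i _ => ?_
  simp only [ne_eq, cast_eq_zero_iff]
  split_ifs <;> omega

lemma doubly {c : ι → ZMod 2} (hc : c ∈ h.code) : 4 ∣ Steiner.wgt c := by
  obtain ⟨w, hw, rfl⟩ := hc
  have h1 := h.sixteen _ hw
  rw [sqNorm_mul] at h1
  have h2 : (4 : ℤ) ∣ ∑ i, (w i ^ 2 - w i % 2) := Finset.dvd_sum fun i _ => sq_sub_dvd (w i)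
  rw [Finset.sum_sub_distrib, ← wgt_eq_sum h w, show (∑ i, w i ^ 2) = sqNorm w from rfl] at h2
  omega

lemma no4 {c : ι → ZMod 2} (hc : c ∈ h.code) : Steiner.wgt c ≠ 4 := by
  intro h4
  obtain ⟨w, hw, rfl⟩ := hc
  have hne : (support₂ fun i => (w i : ZMod 2)).Nonempty := Finset.card_pos.mp (by
    rw [Steiner.wgt] at h4; omega)
  obtain ⟨p, hp⟩ := hne
  have hwp : w p % 2 = 1 := by
    simp only [support₂, Finset.mem_filter, Finset.mem_univ, true_and, Ne, cast_eq_zero_iff] at hp
    omega
  have key : ∀ t : ι → ℤ, (∀ i, t i ^ 2 = w i % 2) → (∀ i, (2 : ℤ) ∣ t i - w i) →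
      ¬ (2 : ℤ) ∣ ∑ i, (t i - w i) / 2 := by
    intro t ht htw hsum
    have hmem : (fun i => 2 * t i) ∈ Λ := by
      convert! Λ.add_mem hw (h.four (fun i => (t i - w i) / 2) hsum) using 1
      funext i
      have := htw i
      simp only [Pi.add_apply]
      omega
    have hnorm : sqNorm (fun i => 2 * t i) = 16 := by
      rw [sqNorm_mul, sqNorm, Finset.sum_congr rfl fun i _ => ht i, ← wgt_eq_sum h w, h4]
      norm_num
    have h0 : (fun i => 2 * t i) ≠ 0 := fun e => by
      have := congrFun e p
      have := htw p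
      simp only [Pi.zero_apply] at *
      omega
    have := h.low _ hmem h0
    omega
  by_cases hpar : (2 : ℤ) ∣ ∑ i, (w i % 2 - w i) / 2
  · refine key (fun i => w i % 2) (fun i => ?_) (fun i => by omega) hpar
    rcases Int.emod_two_eq_zero_or_one (w i) with e | e <;> rw [e] <;> norm_num
  · refine key (fun i => if i = p then -1 else w i % 2) (fun i => ?_) (fun i => ?_) ?_
    · split_ifs with hi
      · rw [hi, hwp]; norm_num
      · rcases Int.emod_two_eq_zero_or_one (w i) with e | e <;> rw [e] <;> norm_num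
    · split_ifs with hi
      · subst hi; omega
      · omega
    · rw [← Finset.add_sum_erase _ _ (Finset.mem_univ p)] at hpar ⊢
      have e : ∑ i ∈ univ.erase p, ((if i = p then -1 else w i % 2) - w i) / 2
          = ∑ i ∈ univ.erase p, (w i % 2 - w i) / 2 :=
        Finset.sum_congr rfl fun i hi => by rw [if_neg (Finset.ne_of_mem_erase hi)]
      rw [e, if_pos rfl]
      omega

lemma finrank_le : Module.finrank (ZMod 2) h.code ≤ 12 := by
  have hle : h.code ≤ Steiner.perp h.code := by
    intro v hv
    rw [Steiner.mem_perp]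
    intro w hw
    rw [Steiner.dot_eq_zero_iff, Nat.even_iff]
    have e := Steiner.wgt_add v w
    obtain ⟨a, ha⟩ := h.doubly hv
    obtain ⟨b, hb⟩ := h.doubly hw
    obtain ⟨c, hc⟩ := h.doubly (h.code.add_mem hv hw)
    omega
  have h1 := Submodule.finrank_mono hle
  have h2 := Steiner.finrank_perp h.code
  rw [h.len] at h2
  omega

lemma eq_zero_of_small {c : ι → ZMod 2} (hc : c ∈ h.code) (hlt : Steiner.wgt c < 8) : c = 0 := by
  obtain ⟨a, ha⟩ := h.doubly hc
  have := h.no4 hc
  exact Steiner.wgt_eq_zero.mp (by omega)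

/-- The weight eight supports. -/
noncomputable def eights : Finset (Finset ι) := by
  classical
  exact ((univ : Finset ι).powersetCard 8).filter fun s => Steiner.ind s ∈ h.code

lemma eights_card : h.eights.card ≤ 759 := by
  classical
  have hd : (h.eights : Set (Finset ι)).PairwiseDisjoint fun s => s.powersetCard 5 := by
    intro s hs t ht hne
    simp only [eights, Finset.coe_filter, Finset.mem_powersetCard, Set.mem_ofPred_eq] at hs ht
    show Disjoint (s.powersetCard 5) (t.powersetCard 5)
    rw [Finset.disjoint_left]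
    intro f hfs hft
    refine hne ?_
    rw [Finset.mem_powersetCard] at hfs hft
    have hmem : Steiner.ind (symmDiff s t) ∈ h.code := by
      rw [Steiner.ind_symmDiff]; exact h.code.add_mem hs.2 ht.2
    have hlt : Steiner.wgt (Steiner.ind (symmDiff s t)) < 8 := by
      rw [Steiner.wgt, Steiner.support_ind]
      have := Finset.card_le_card (Finset.subset_inter hfs.1 hft.1)
      have := Steiner.card_symmDiff_inter s t
      omega
    have h0 := congrArg support₂ (h.eq_zero_of_small hmem hlt)
    rw [Steiner.support_ind, Steiner.support_zero] at h0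
    exact symmDiff_eq_bot.mp h0
  have h1 : (h.eights.biUnion fun s => s.powersetCard 5).card ≤
      ((univ : Finset ι).powersetCard 5).card :=
    Finset.card_le_card fun f hf => Finset.mem_powersetCard.mpr ⟨Finset.subset_univ _, by
      obtain ⟨s, _, hf⟩ := Finset.mem_biUnion.mp hf
      exact (Finset.mem_powersetCard.mp hf).2⟩
  rw [Finset.card_biUnion hd, Finset.card_powersetCard, Finset.card_univ, h.len,
    Finset.sum_congr rfl (fun s hs => show (s.powersetCard 5).card = 56 by
      simp only [eights, Finset.mem_filter, Finset.mem_powersetCard] at hs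
      rw [Finset.card_powersetCard, hs.1.2]; rfl),
    Finset.sum_const, smul_eq_mul, show Nat.choose 24 5 = 42504 from rfl] at h1
  omega

/-- Counting vectors of least norm shows that there is an odd vector and the code is big. -/
lemma key_count : Module.finrank (ZMod 2) h.code = 12 ∧ ∃ u ∈ Λ, ∀ i, u i % 2 = 1 := by
  classical
  obtain ⟨i₀⟩ : Nonempty ι := Fintype.card_pos_iff.mp (by rw [h.len]; norm_num)
  have hfinS : {v : ι → ℤ | v ∈ Λ ∧ sqNorm v = 32}.Finite :=
    Set.finite_of_ncard_ne_zero (by rw [h.count]; norm_num)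
  set S := hfinS.toFinset with hS
  have hmemS : ∀ v, v ∈ S ↔ v ∈ Λ ∧ sqNorm v = 32 := fun v => by simp [hS]
  have hScard : S.card = 196560 := by rw [hS, ← Set.ncard_eq_toFinset_card _ hfinS]; exact h.count
  let SA := S.filter fun v => ∀ i, (4 : ℤ) ∣ v i
  let SB := S.filter fun v => (∀ i, (2 : ℤ) ∣ v i) ∧ ¬ ∀ i, (4 : ℤ) ∣ v i
  let SO := S.filter fun v => ¬ ∀ i, (2 : ℤ) ∣ v i
  have hsplit : S.card ≤ SA.card + SB.card + SO.card := by
    refine le_trans (Finset.card_le_card fun v hv => ?_)
      ((Finset.card_union_le (SA ∪ SB) SO).trans (Nat.add_le_add_right (Finset.card_union_le _ _) _))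
    simp only [SA, SB, SO, Finset.mem_union, Finset.mem_filter]
    tauto
  -- vectors divisible by four
  have hA : SA.card ≤ 1104 := by
    let cand : Finset ι → Finset (ι → ℤ) := fun s =>
      s.powerset.image fun t i => if i ∈ t then (4 : ℤ) else if i ∈ s then -4 else 0
    have hsub : SA ⊆ ((univ : Finset ι).powersetCard 2).biUnion cand := by
      intro v hv
      simp only [SA, Finset.mem_filter, hmemS] at hv
      obtain ⟨⟨-, hn⟩, h4⟩ := hv
      choose z hz using h4
      have hn2 : ∑ i, z i ^ 2 = 2 := by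
        have e : v = fun i => 4 * z i := funext hz
        rw [e, sqNorm_mul, sqNorm] at hn
        omega
      have hb : ∀ i, z i = 0 ∨ z i = 1 ∨ z i = -1 := by
        intro i
        have h1 : z i ^ 2 ≤ 2 :=
          hn2 ▸ Finset.single_le_sum (f := fun j => z j ^ 2) (fun j _ => sq_nonneg _) (mem_univ i)
        have h2 : z i ≤ 1 := by nlinarith
        have h3 : -1 ≤ z i := by nlinarith
        omega
      refine Finset.mem_biUnion.mpr ⟨univ.filter fun i => z i ≠ 0,
        Finset.mem_powersetCard.mpr ⟨Finset.subset_univ _, ?_⟩,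
        Finset.mem_image.mpr ⟨univ.filter fun i => z i = 1, ?_, ?_⟩⟩
      · have e : ((univ.filter fun i => z i ≠ 0).card : ℤ) = ∑ i, z i ^ 2 := by
          rw [Finset.card_filter, Nat.cast_sum]
          exact Finset.sum_congr rfl fun i _ => by rcases hb i with e | e | e <;> simp [e]
        omega
      · refine Finset.mem_powerset.mpr fun i hi => ?_
        simp only [Finset.mem_filter, Finset.mem_univ, true_and] at hi ⊢
        omega
      · funext i
        simp only [Finset.mem_filter, Finset.mem_univ, true_and]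
        rcases hb i with e | e | e <;> simp [e, hz i]
    refine (Finset.card_le_card hsub).trans ((Finset.card_biUnion_le_card_mul _ _ 4 fun s hs =>
      Finset.card_image_le.trans ?_).trans ?_)
    · rw [Finset.card_powerset, (Finset.mem_powersetCard.mp hs).2]; norm_num
    · rw [Finset.card_powersetCard, Finset.card_univ, h.len]
      norm_num [Nat.choose]
  -- even vectors of the second shape
  have hB : SB.card ≤ 128 * h.eights.card := by
    let supp : (ι → ℤ) → Finset ι := fun v => univ.filter fun i => v i ≠ 0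
    have hshape : ∀ v ∈ SB, supp v ∈ h.eights ∧ ∀ i, v i = 0 ∨ v i = 2 ∨ v i = -2 := by
      intro v hv
      simp only [SB, Finset.mem_filter, hmemS] at hv
      obtain ⟨⟨hvΛ, hn⟩, h2, h4⟩ := hv
      choose w hw using h2
      have e : v = fun i => 2 * w i := funext hw
      have hn8 : ∑ i, w i ^ 2 = 8 := by rw [e, sqNorm_mul, sqNorm] at hn; omega
      have hc : (fun i => (w i : ZMod 2)) ∈ h.code := ⟨w, e ▸ hvΛ, rfl⟩
      have hc0 : (fun i => (w i : ZMod 2)) ≠ 0 := by
        intro e0
        refine h4 fun i => ?_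
        have := congrFun e0 i
        rw [Pi.zero_apply, cast_eq_zero_iff] at this
        have := hw i
        omega
      have h8 : 8 ≤ Steiner.wgt (fun i => (w i : ZMod 2)) :=
        le_of_not_gt fun hlt => hc0 (h.eq_zero_of_small hc hlt)
      have hle : ∀ i ∈ (univ : Finset ι), w i % 2 ≤ w i ^ 2 := fun i _ => by
        rcases Int.emod_two_eq_zero_or_one (w i) with e | e
        · rw [e]; exact sq_nonneg _
        · have : w i ≠ 0 := by omega
          have : 0 < w i ^ 2 := by positivity
          omega
      have hsum := wgt_eq_sum h w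
      have hle' := Finset.sum_le_sum hle
      have heq : ∀ i, w i % 2 = w i ^ 2 := fun i =>
        (Finset.sum_eq_sum_iff_of_le hle).mp (by omega) i (mem_univ i)
      have hb : ∀ i, w i = 0 ∨ w i = 1 ∨ w i = -1 := by
        intro i
        have := heq i
        have h1 : w i ^ 2 ≤ 1 := by omega
        have h2 : w i ≤ 1 := by nlinarith
        have h3 : -1 ≤ w i := by nlinarith
        omega
      have hs : supp v = support₂ (fun i => (w i : ZMod 2)) := by
        ext i
        simp only [supp, support₂, Finset.mem_filter, Finset.mem_univ, true_and, Ne,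
          cast_eq_zero_iff, hw i]
        rcases hb i with e | e | e <;> simp [e]
      refine ⟨?_, fun i => by have := hb i; have := hw i; omega⟩
      simp only [eights, Finset.mem_filter, Finset.mem_powersetCard]
      refine ⟨⟨Finset.subset_univ _, ?_⟩, ?_⟩
      · rw [hs]; rw [Steiner.wgt] at h8 hsum; omega
      · rw [hs, Steiner.ind_support]; exact hc
    refine Finset.card_le_mul_card_image_of_maps_to (fun v hv => (hshape v hv).1) 128 fun s hs => ?_
    simp only [eights, Finset.mem_filter, Finset.mem_powersetCard] at hs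
    obtain ⟨p, hp⟩ : s.Nonempty := Finset.card_pos.mp (by omega)
    refine le_trans (Finset.card_le_card_of_injOn
      (fun v => (s.erase p).filter fun i => v i = 2) (t := (s.erase p).powerset) ?_ ?_) ?_
    · exact fun v _ => Finset.mem_coe.mpr (Finset.mem_powerset.mpr (Finset.filter_subset _ _))
    · intro v hv v' hv' e
      rw [Finset.mem_coe, Finset.mem_filter] at hv hv'
      obtain ⟨hv, hvs⟩ := hv
      obtain ⟨hv', hvs'⟩ := hv'
      have hb := (hshape v hv).2
      have hb' := (hshape v' hv').2
      have hout : ∀ i, i ∉ s → v i = 0 ∧ v' i = 0 := by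
        intro i hi
        constructor
        · by_contra hne; exact hi (hvs ▸ Finset.mem_filter.mpr ⟨mem_univ _, hne⟩)
        · by_contra hne; exact hi (hvs' ▸ Finset.mem_filter.mpr ⟨mem_univ _, hne⟩)
      have hin : ∀ i, i ∈ s → v i ≠ 0 ∧ v' i ≠ 0 := fun i hi =>
        ⟨(Finset.mem_filter.mp (hvs.symm ▸ hi : i ∈ supp v)).2,
          (Finset.mem_filter.mp (hvs'.symm ▸ hi : i ∈ supp v')).2⟩
      have hoff : ∀ i, i ≠ p → v i = v' i := by
        intro i hip
        by_cases hi : i ∈ s
        · have := (Finset.ext_iff.mp e i)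
          simp only [Finset.mem_filter, Finset.mem_erase, hip, hi, ne_eq, not_false_eq_true,
            true_and] at this
          have := hb i; have := hb' i; have := hin i hi
          omega
        · obtain ⟨a, b⟩ := hout i hi; rw [a, b]
      funext i
      by_cases hip : i = p
      · subst hip
        by_contra hne
        have hΛ : v - v' ∈ Λ :=
          Λ.sub_mem ((hmemS v).mp (Finset.mem_filter.mp hv).1).1
            ((hmemS v').mp (Finset.mem_filter.mp hv').1).1
        have hsq : sqNorm (v - v') = 16 := by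
          rw [sqNorm, Finset.sum_eq_single i (fun j _ hj => by
            rw [Pi.sub_apply, hoff j hj, sub_self]; norm_num) (by simp)]
          rw [Pi.sub_apply]
          obtain ⟨h1, h2⟩ := hin i hp
          rcases hb i with a | a | a <;> rcases hb' i with b | b | b <;>
            simp [a, b] at hne h1 h2 ⊢
        have := h.low _ hΛ (sub_ne_zero.mpr fun e' => hne (congrFun e' i))
        omega
      · exact hoff i hip
    · rw [Finset.card_powerset, Finset.card_erase_of_mem hp, hs.1.2]; norm_num
  -- odd vectors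
  have hoddall : ∀ v ∈ Λ, ¬ (∀ i, (2 : ℤ) ∣ v i) → ∀ i, v i % 2 = 1 := by
    intro v hv hne i
    rcases Int.emod_two_eq_zero_or_one (v i) with e | e
    · exact absurd (fun j => by have := h.par v hv i j; omega) hne
    · exact e
  have hcard : Fintype.card h.code = 2 ^ Module.finrank (ZMod 2) h.code := by
    rw [← Nat.card_eq_fintype_card, Steiner.natCard_eq_two_pow]
  have h8 := h.eights_card
  by_cases hSO : SO = ∅
  · rw [hSO] at hsplit
    simp only [Finset.card_empty] at hsplit
    omega
  obtain ⟨u, hu⟩ := Finset.nonempty_iff_ne_empty.mpr hSO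
  simp only [SO, Finset.mem_filter, hmemS] at hu
  obtain ⟨⟨huΛ, -⟩, hu2⟩ := hu
  have huodd := hoddall u huΛ hu2
  have hone : ∀ v ∈ SO, ∃ i, (v i = 3 ∨ v i = -3) ∧ ∀ j, j ≠ i → (v j = 1 ∨ v j = -1) := by
    intro v hv
    simp only [SO, Finset.mem_filter, hmemS] at hv
    obtain ⟨⟨hvΛ, hn⟩, h2⟩ := hv
    have hodd := hoddall v hvΛ h2
    have hn8 : ∑ i, (v i ^ 2 - 1) = 8 := by
      rw [Finset.sum_sub_distrib, show (∑ i, v i ^ 2) = sqNorm v from rfl, hn, Finset.sum_const,
        Finset.card_univ, h.len]
      norm_num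
    have hcase : ∀ i, (v i = 1 ∨ v i = -1) ∨ 8 ≤ v i ^ 2 - 1 := by
      intro i
      have := hodd i
      by_cases h3 : 3 ≤ v i ∨ v i ≤ -3
      · right; rcases h3 with h3 | h3 <;> nlinarith
      · left; omega
    have hnn : ∀ i ∈ (univ : Finset ι), 0 ≤ v i ^ 2 - 1 := fun i _ => by
      rcases hcase i with (e | e) | e
      · rw [e]; norm_num
      · rw [e]; norm_num
      · omega
    obtain ⟨i, hi⟩ : ∃ i, v i ^ 2 - 1 ≠ 0 := by
      by_contra hall
      push Not at hall
      rw [Finset.sum_eq_zero fun i _ => hall i] at hn8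
      norm_num at hn8
    have hi8 : 8 ≤ v i ^ 2 - 1 := by
      rcases hcase i with (e | e) | e
      · rw [e] at hi; norm_num at hi
      · rw [e] at hi; norm_num at hi
      · exact e
    refine ⟨i, ?_, fun j hj => ?_⟩
    · have hle : v i ^ 2 - 1 ≤ 8 := hn8 ▸ Finset.single_le_sum hnn (mem_univ i)
      have h1 : v i ≤ 3 := by nlinarith
      have h2 : -3 ≤ v i := by nlinarith
      have := hodd i
      by_contra hc
      have : v i = 1 ∨ v i = -1 := by omega
      rcases this with e | e <;> rw [e] at hi8 <;> norm_num at hi8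
    · rcases hcase j with e | e
      · exact e
      · have := Finset.sum_le_sum_of_subset_of_nonneg (Finset.subset_univ ({i, j} : Finset ι))
          (fun k hk _ => hnn k hk)
        rw [Finset.sum_pair hj.symm, hn8] at this
        omega
  haveI : Nonempty ι := ⟨i₀⟩
  choose! pos hpos using hone
  have hO : SO.card ≤ 24 * 2 ^ Module.finrank (ZMod 2) h.code := by
    let g : (ι → ℤ) → ι × (ι → ZMod 2) := fun v => (pos v, fun j => (((v j - u j) / 2 : ℤ) : ZMod 2))
    refine le_trans (Finset.card_le_card_of_injOn g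
      (t := (univ : Finset ι) ×ˢ (univ.filter fun c => c ∈ h.code)) ?_ ?_) ?_
    · intro v hv
      have hv' := hv
      simp only [SO, Finset.mem_coe, Finset.mem_filter, hmemS] at hv'
      obtain ⟨⟨hvΛ, -⟩, hv2⟩ := hv'
      have hodd := hoddall v hvΛ hv2
      simp only [g, Finset.mem_coe, Finset.mem_product, Finset.mem_filter, Finset.mem_univ,
        true_and]
      refine ⟨fun j => (v j - u j) / 2, ?_, rfl⟩
      convert! Λ.sub_mem hvΛ huΛ using 1
      funext j
      have := hodd j; have := huodd j
      simp only [Pi.sub_apply]; omega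
    · intro v hv v' hv' e
      rw [Finset.mem_coe] at hv hv'
      simp only [g, Prod.mk.injEq, funext_iff, ZMod.intCast_eq_intCast_iff'] at e
      obtain ⟨ep, ec⟩ := e
      obtain ⟨h3, h1⟩ := hpos v hv
      obtain ⟨h3', h1'⟩ := hpos v' hv'
      funext j
      have := ec j
      have := huodd j
      by_cases hj : j = pos v
      · subst hj
        rw [← ep] at h3'
        omega
      · have := h1 j hj
        have := h1' j (ep ▸ hj)
        omega
    · rw [Finset.card_product, Finset.card_univ, h.len, ← hcard, Fintype.card_subtype]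
  have h12 : 4096 ≤ 2 ^ Module.finrank (ZMod 2) h.code := by omega
  refine ⟨le_antisymm h.finrank_le ?_, u, huΛ, huodd⟩
  by_contra hlt
  have : 2 ^ Module.finrank (ZMod 2) h.code ≤ 2 ^ 11 := Nat.pow_le_pow_right (by norm_num) (by omega)
  omega

lemma isGolay : Steiner.IsGolay h.code :=
  ⟨h.len, h.key_count.1, fun _ hw => h.doubly hw, fun _ hw => h.no4 hw⟩

end Framed

/-- A framed lattice is the standard lattice after signing and relabelling the coordinates. -/
theorem exists_signed_equiv {Λ : AddSubgroup (ι → ℤ)} (h : Framed Λ) :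
    ∃ (σ : ι ≃ GolayPt) (s : ι → ℤ), (∀ i, s i * s i = 1) ∧
      ∀ v : ι → ℤ, v ∈ Λ ↔ (fun p => s (σ.symm p) * v (σ.symm p)) ∈ leechLattice := by
  classical
  obtain ⟨σ, hσ⟩ := Steiner.golay_unique h.isGolay Steiner.golay_isGolay
  obtain ⟨-, u, huΛ, huodd⟩ := h.key_count
  let s : ι → ℤ := fun i => if u i % 4 = 1 then 1 else -1
  have hs : ∀ i, s i * s i = 1 := fun i => by simp only [s]; split_ifs <;> norm_num
  have hscast : ∀ i, ((s i : ℤ) : ZMod 2) = 1 := fun i => by
    rw [cast_eq_one_iff]; simp only [s]; split_ifs <;> norm_num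
  have hsu : ∀ i, (4 : ℤ) ∣ s i - u i := fun i => by
    have := huodd i; simp only [s]; split_ifs <;> omega
  have hsu1 : ∀ i, (4 : ℤ) ∣ s i * u i - 1 := fun i => by
    rcases Int.emod_two_eq_zero_or_one (s i) with e | e <;>
      · have := huodd i; simp only [s] at e ⊢; split_ifs at e ⊢ <;> omega
  let T : (ι → ℤ) → GolayPt → ℤ := fun v p => s (σ.symm p) * v (σ.symm p)
  have hTadd : ∀ v w, T (v + w) = T v + T w := fun v w => funext fun p => by simp [T, mul_add]
  have hTsum : ∀ v, ∑ p, T v p = ∑ i, s i * v i := fun v =>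
    Equiv.sum_comp σ.symm fun i => s i * v i
  have hclass : ∀ w : ι → ℤ,
      (fun p => ((T w p : ℤ) : ZMod 2)) ∘ σ = fun i => (w i : ZMod 2) := fun w => funext fun i => by
    simp [T, hscast]
  have hcode : ∀ w : ι → ℤ, (fun i => 2 * w i) ∈ Λ →
      (fun p => ((T w p : ℤ) : ZMod 2)) ∈ golayCode ∧ (4 : ℤ) ∣ ∑ p, T w p := by
    intro w hw
    refine ⟨?_, ?_⟩
    · rw [hσ, hclass]
      exact ⟨w, hw, rfl⟩
    · have h8 := h.eight_dvd_dot hw huΛ
      have e : dotInt (fun i => 2 * w i) u = 2 * ∑ i, w i * u i := by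
        simp only [dotInt, Finset.mul_sum, mul_assoc]
      rw [e] at h8
      have h4 : (4 : ℤ) ∣ ∑ i, (s i * w i - w i * u i) := Finset.dvd_sum fun i _ => by
        rw [show s i * w i - w i * u i = w i * (s i - u i) by ring]
        exact dvd_mul_of_dvd_right (hsu i) _
      rw [Finset.sum_sub_distrib] at h4
      rw [hTsum]
      omega
  have heven : ∀ w : ι → ℤ, (fun i => 2 * w i) ∈ Λ → T (fun i => 2 * w i) ∈ leechLattice := by
    intro w hw
    rw [show T (fun i => 2 * w i) = fun p => 2 * T w p from funext fun p => by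
      simp only [T]; ring, CfsgLib.Leech.two_mul_mem_iff]
    exact hcode w hw
  have huL : T u ∈ leechLattice := by
    rw [CfsgLib.Leech.mem_leech_iff]
    have h1 : ∀ p, (4 : ℤ) ∣ T u p - 1 := fun p => hsu1 _
    refine ⟨fun p => by have := h1 p; have := h1 none; omega, ?_, ?_⟩
    · choose a ha using h1
      have e : ∀ p, T u p = 4 * a p + 1 := fun p => by have := ha p; omega
      have h16 := h.sixteen u huΛ
      have hnorm : sqNorm u = ∑ p, T u p ^ 2 := by
        rw [sqNorm, ← Equiv.sum_comp σ.symm]
        exact Finset.sum_congr rfl fun p _ => by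
          simp only [T, mul_pow, sq (s _), hs, one_mul]
      have e2 : ∑ p, T u p ^ 2 = 16 * (∑ p, a p ^ 2) + 8 * (∑ p, a p) + 24 := by
        rw [Finset.mul_sum, Finset.mul_sum, ← Finset.sum_add_distrib,
          show (24 : ℤ) = ∑ _p : GolayPt, (1 : ℤ) by simp [CfsgLib.Golay.card_golayPt],
          ← Finset.sum_add_distrib]
        exact Finset.sum_congr rfl fun p _ => by rw [e p]; ring
      rw [hnorm, e2] at h16
      rw [Finset.sum_congr rfl fun p _ => e p, Finset.sum_add_distrib, ← Finset.mul_sum,
        Finset.sum_const, Finset.card_univ, CfsgLib.Golay.card_golayPt, e none, nsmul_one]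
      push_cast
      omega
    · rw [show CfsgLib.Leech.hi (T u) = 0 from funext fun p => by
        rw [Pi.zero_apply, CfsgLib.Leech.hi, cast_eq_zero_iff]
        have := h1 p
        omega]
      exact golayCode.zero_mem
  refine ⟨σ, s, hs, fun v => ⟨fun hv => ?_, fun hv => ?_⟩⟩
  · change T v ∈ leechLattice
    by_cases h2 : ∀ i, (2 : ℤ) ∣ v i
    · choose w hw using h2
      rw [show v = fun i => 2 * w i from funext hw]
      exact heven w (funext hw ▸ hv)
    · have h2' : ∀ i, v i % 2 = 1 := fun i => by
        by_contra hne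
        exact h2 fun j => by have := h.par v hv i j; omega
      have e : (fun i => 2 * ((v i - u i) / 2)) = v - u := funext fun i => by
        have := h2' i; have := huodd i; simp only [Pi.sub_apply]; omega
      rw [show T v = T (v - u) + T u by rw [← hTadd, sub_add_cancel], ← e]
      exact leechLattice.add_mem (heven _ (e ▸ Λ.sub_mem hv huΛ)) huL
  · -- every vector of the standard lattice comes from Λ
    have key : ∀ y : ι → ℤ, (fun p => 2 * T y p) ∈ leechLattice → (fun i => 2 * y i) ∈ Λ := by
      intro y hy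
      rw [CfsgLib.Leech.two_mul_mem_iff] at hy
      obtain ⟨hyc, hys⟩ := hy
      rw [hσ, hclass] at hyc
      obtain ⟨w, hw, hwy⟩ := hyc
      obtain ⟨-, hws⟩ := hcode w hw
      rw [hTsum] at hys hws
      have hd : ∀ i, (2 : ℤ) ∣ y i - w i := fun i => by
        have := congrFun hwy i
        rw [ZMod.intCast_eq_intCast_iff'] at this
        omega
      choose d hd using hd
      have h4 : (4 : ℤ) ∣ ∑ i, (s i * y i - s i * w i) := by
        rw [Finset.sum_sub_distrib]; omega
      have h2d : (2 : ℤ) ∣ ∑ i, d i := by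
        have e : ∑ i, (s i * y i - s i * w i) = 2 * ∑ i, s i * d i := by
          rw [Finset.mul_sum]
          exact Finset.sum_congr rfl fun i _ => by rw [← mul_sub, hd]; ring
        rw [e] at h4
        have h2 : (2 : ℤ) ∣ ∑ i, (s i * d i - d i) := Finset.dvd_sum fun i _ => by
          rw [← sub_one_mul]
          exact dvd_mul_of_dvd_left (by have := (cast_eq_one_iff _).mp (hscast i); omega) _
        rw [Finset.sum_sub_distrib] at h2
        omega
      convert! Λ.add_mem hw (h.four d h2d) using 1
      funext i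
      have := hd i
      simp only [Pi.add_apply]; omega
    change T v ∈ leechLattice at hv
    have hpar : ∀ i, (2 : ℤ) ∣ v i - v (σ.symm none) := fun i => by
      have h1 := (CfsgLib.Leech.mem_leech hv).par (σ i)
      have a := (cast_eq_one_iff _).mp (hscast i)
      have b := (cast_eq_one_iff _).mp (hscast (σ.symm none))
      simp only [T, Equiv.symm_apply_apply] at h1
      have c1 : (2 : ℤ) ∣ s i * v i - v i := by
        rw [← sub_one_mul]; exact dvd_mul_of_dvd_left (by omega) _
      have c2 : (2 : ℤ) ∣ s (σ.symm none) * v (σ.symm none) - v (σ.symm none) := by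
        rw [← sub_one_mul]; exact dvd_mul_of_dvd_left (by omega) _
      omega
    rcases Int.emod_two_eq_zero_or_one (v (σ.symm none)) with e | e
    · have e2 : (fun i => 2 * (v i / 2)) = v := funext fun i => by have := hpar i; omega
      rw [← e2]
      refine key _ ?_
      convert! hv using 1
      funext p
      conv_rhs => rw [← e2]
      simp only [T]; ring
    · have e2 : (fun i => 2 * ((v i - u i) / 2)) = v - u := funext fun i => by
        have := hpar i; have := huodd i; simp only [Pi.sub_apply]; omega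
      have hvu : v - u ∈ Λ := by
        rw [← e2]
        refine key _ ?_
        convert! leechLattice.sub_mem hv huL using 1
        funext p
        have := congrFun e2 (σ.symm p)
        simp only [T, Pi.sub_apply] at this ⊢
        linear_combination s (σ.symm p) * this
      simpa using Λ.add_mem hvu huΛ

end Cfsg.Agent.LeechChar
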